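import Groth.Agent.Lib.GenPts4.Exists
import Groth.Agent.Lib.FpqcFun4.DimLT
import Groth.Agent.Lib.FlatDepth.FibreStalk
import Groth.Agent.Lib.OrbitTop19.Smooth
import Groth.Agent.S2768
import Mathlib

/-!
# Flatness in dimensions at least `d` for smooth morphisms of relative dimension `d`
-/

set_option autoImplicit false
set_option linter.style.haveILetI false
set_option backward.isDefEq.respectTransparency false
set_option backward.isDefEq.respectTransparency.types false

universe u

open CategoryTheory CategoryTheory.Limits AlgebraicGeometry Opposite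
open scoped TensorProduct

noncomputable section

namespace Groth.Agent.GenPts4

/-- Flat over a base whose maximal ideal generates the maximal ideal is free. -/
theorem free_of_flat_of_maximalIdeal_eq {A O N : Type u} [CommRing A] [CommRing O] [IsLocalRing A] [IsLocalRing O]
    [Algebra A O] [AddCommGroup N] [Module O N] [Module A N] [IsScalarTower A O N] [Module.FinitePresentation O N]
    [Module.Flat A N] (h : IsLocalRing.maximalIdeal O = (IsLocalRing.maximalIdeal A).map (algebraMap A O)) :
    Module.Free O N := by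
  set 𝔪 := IsLocalRing.maximalIdeal A
  set 𝔫 := IsLocalRing.maximalIdeal O
  refine Module.free_of_maximalIdeal_rTensor_injective (R := O) (M := N) ?_
  let i : 𝔪 →ₗ[A] 𝔫 :=
    { toFun := fun a => ⟨algebraMap A O a, by rw [h]; exact Ideal.mem_map_of_mem _ a.2⟩
      map_add' := fun a b => Subtype.ext (map_add _ _ _)
      map_smul' := fun c a => Subtype.ext (by simp [Algebra.smul_def]) }
  let Φ : 𝔪 ⊗[A] N →+ 𝔫 ⊗[O] N := TensorProduct.liftAddHom
    { toFun := fun a =>
        { toFun := fun n => i a ⊗ₜ[O] n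
          map_zero' := TensorProduct.tmul_zero _ _
          map_add' := fun n n' => TensorProduct.tmul_add _ _ _ }
      map_zero' := by ext n; simp
      map_add' := fun a b => by ext n; simp [TensorProduct.add_tmul] }
    (fun r a n => by
      show i (r • a) ⊗ₜ[O] n = i a ⊗ₜ[O] (r • n)
      rw [map_smul, ← algebraMap_smul O r n, ← TensorProduct.smul_tmul, algebraMap_smul])
  have hgen : ∀ (o : 𝔫) (n : N), o ⊗ₜ[O] n ∈ AddMonoidHom.mrange Φ := by
    rintro ⟨o, ho⟩ n
    have ho' : o ∈ Submodule.span O (algebraMap A O '' (𝔪 : Set A)) := by rw [h] at ho; exact ho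
    induction ho' using Submodule.span_induction generalizing n with
    | mem o ho' =>
      obtain ⟨a, ha, rfl⟩ := ho'
      exact ⟨(⟨a, ha⟩ : 𝔪) ⊗ₜ n, rfl⟩
    | zero => rw [show (⟨0, ho⟩ : 𝔫) = 0 from rfl, TensorProduct.zero_tmul]; exact zero_mem _
    | add o o' ho₁ ho₂ ih ih' =>
      have h₁ : o ∈ 𝔫 := by rw [h]; exact ho₁
      have h₂ : o' ∈ 𝔫 := by rw [h]; exact ho₂
      rw [show (⟨o + o', ho⟩ : 𝔫) = ⟨o, h₁⟩ + ⟨o', h₂⟩ from rfl, TensorProduct.add_tmul]
      exact add_mem (ih h₁ n) (ih' h₂ n)
    | smul c o ho₁ ih =>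
      have h₁ : o ∈ 𝔫 := by rw [h]; exact ho₁
      rw [show (⟨c • o, ho⟩ : 𝔫) = c • ⟨o, h₁⟩ from rfl, TensorProduct.smul_tmul]
      exact ih h₁ (c • n)
  have hΦ : Function.Surjective Φ := fun z => by
    induction z using TensorProduct.induction_on with
    | zero => exact ⟨0, map_zero _⟩
    | tmul o n => exact hgen o n
    | add x y hx hy =>
      obtain ⟨a, rfl⟩ := hx
      obtain ⟨b, rfl⟩ := hy
      exact ⟨a + b, map_add _ _ _⟩
  have key : ∀ z : 𝔪 ⊗[A] N, TensorProduct.lid O N ((𝔫.subtype).rTensor N (Φ z)) =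
      TensorProduct.lid A N ((𝔪.subtype).rTensor N z) := fun z => by
    induction z using TensorProduct.induction_on with
    | zero => simp
    | tmul a n =>
      show TensorProduct.lid O N (algebraMap A O a ⊗ₜ[O] n) = TensorProduct.lid A N ((a : A) ⊗ₜ[A] n)
      rw [TensorProduct.lid_tmul, TensorProduct.lid_tmul, algebraMap_smul]
    | add x y hx hy => simp only [map_add, hx, hy]
  intro a b hab
  obtain ⟨a, rfl⟩ := hΦ a
  obtain ⟨b, rfl⟩ := hΦ b
  refine congrArg Φ (Module.Flat.rTensor_preserves_injective_linearMap (M := N) 𝔪.subtype 𝔪.injective_subtype ?_)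
  refine (TensorProduct.lid A N).injective ?_
  rw [← key, ← key, hab]

variable {X T : Scheme.{u}} (q : X ⟶ T) [Smooth q] [GeometricallyIrreducible q]

/-- At the generic point of a fibre the maximal ideal comes from the base. -/
theorem maximalIdeal_eq_map {x : X} (hx : FlatFun.IsGenericPtOfFibre q x) :
    IsLocalRing.maximalIdeal (X.presheaf.stalk x) =
      (IsLocalRing.maximalIdeal (T.presheaf.stalk (q x))).map (q.stalkMap x).hom := by
  let t := q x
  haveI : Smooth (q.fiberToSpecResidueField t) := MorphismProperty.pullback_snd _ _ ‹_›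
  haveI : IsReduced (q.fiber t) := OrbitTop19.isReduced_of_smooth (q.fiberToSpecResidueField t)
  haveI : IsIntegral (q.fiber t) := isIntegral_of_irreducibleSpace_of_isReduced _
  have hgen : genericPoint (q.fiber t) = q.asFiber x := by
    refine (q.fiberι t).isEmbedding.injective ?_
    refine ((hx _ ((q.range_fiberι t).le ⟨_, rfl⟩)).antisymm ?_).eq.symm.trans (q.fiberι_asFiber x).symm
    rw [← q.fiberι_asFiber x]
    exact ((genericPoint_spec (q.fiber t)).specializes (by exact Set.mem_univ _)).map (q.fiberι t).continuous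
  have hfield : IsField ((q.fiber t).presheaf.stalk (q.asFiber x)) := by
    rw [← hgen]
    exact Field.toIsField ((q.fiber t).functionField)
  obtain ⟨e⟩ := FlatDepth.nonempty_fiberStalkEquiv q x
  exact (IsLocalRing.eq_maximalIdeal (Ideal.Quotient.maximal_of_isField _ (e.toMulEquiv.isField hfield))).symm

/-- A finitely presented module flat over the base at the generic point of a fibre is free near it. -/
theorem exists_free_of_flat {F : X.Modules} (hF : CohB1.IsFP F) {x : X} (hx : FlatFun.IsGenericPtOfFibre q x)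
    (h : FlatMod.IsFlatOverAt q F x) : ∃ n, FlatFun.IsFreeOfRankNear F n x := by
  haveI := M1.isFP_isQCoh hF
  obtain ⟨W, hW, hxW, -⟩ := exists_isAffineOpen_mem_and_subset (x := x) (U := ⊤) trivial
  haveI := M1.finitePresentation_sections hF hW
  letI := M1.stalkModule F hxW
  letI := (q.stalkMap x).hom.toAlgebra
  letI := FlatMod.moduleStalkOver q F x
  haveI : IsScalarTower (T.presheaf.stalk (q x)) (X.presheaf.stalk x) (F.presheaf.stalk x) :=
    IsScalarTower.of_algebraMap_smul fun _ _ => rfl
  haveI : Module.Flat (T.presheaf.stalk (q x)) (F.presheaf.stalk x) := h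
  let := TopCat.Presheaf.algebra_section_stalk X.presheaf (⟨x, hxW⟩ : W)
  haveI := hW.isLocalization_stalk ⟨x, hxW⟩
  haveI := M1.isLocalizedModule_germ F hW hxW
  haveI : IsScalarTower Γ(X, W) (X.presheaf.stalk x) (F.presheaf.stalk x) :=
    IsScalarTower.of_algebraMap_smul fun _ _ => rfl
  haveI : Module.FinitePresentation (X.presheaf.stalk x) (F.presheaf.stalk x) :=
    FinitePresentation.of_isBaseChange (M1.germₗ F hxW)
      (IsLocalizedModule.isBaseChange (hW.primeIdealOf ⟨x, hxW⟩).asIdeal.primeCompl _ (M1.germₗ F hxW))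
  haveI : Module.Free (X.presheaf.stalk x) (F.presheaf.stalk x) :=
    free_of_flat_of_maximalIdeal_eq (A := T.presheaf.stalk (q x)) (maximalIdeal_eq_map q hx)
  obtain ⟨U, n, hU, hn⟩ := M1.exists_freeMod_of_free_stalk hF x
  exact ⟨n, U, hU, hn⟩

omit [GeometricallyIrreducible q] in
/-- A module free near a point is flat over the base there. -/
theorem isFlatOverAt_of_free {F : X.Modules} (hF : Coh.IsQCoh F) {n : ℕ} {x : X}
    (h : FlatFun.IsFreeOfRankNear F n x) : FlatMod.IsFlatOverAt q F x := by
  obtain ⟨U, hU, ⟨e⟩⟩ := h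
  haveI := hF
  haveI := M1.free_stalk_of_freeMod hF e hU
  letI := (q.stalkMap x).hom.toAlgebra
  letI := FlatMod.moduleStalkOver q F x
  haveI : IsScalarTower (T.presheaf.stalk (q x)) (X.presheaf.stalk x) (F.presheaf.stalk x) :=
    IsScalarTower.of_algebraMap_smul fun _ _ => rfl
  haveI : Module.Flat (T.presheaf.stalk (q x)) (X.presheaf.stalk x) := Flat.stalkMap q x
  exact Module.Flat.trans (T.presheaf.stalk (q x)) (X.presheaf.stalk x) (F.presheaf.stalk x)

omit [Smooth q] [GeometricallyIrreducible q] in
/-- The rank is bounded by the number of global generators on an affine scheme. -/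
theorem rank_le_of_span {X₀ : Scheme.{u}} (π : X ⟶ X₀) [IsAffine X₀] {F : X₀.Modules} (hF : Coh.IsQCoh F) {c : ℕ}
    (g : Fin c → Γ(F, ⊤)) (hg : Submodule.span Γ(X₀, ⊤) (Set.range g) = ⊤) {n : ℕ} {x : X}
    (h : FlatFun.IsFreeOfRankNear ((Scheme.Modules.pullback π).obj F) n x) : n ≤ c := by
  obtain ⟨W, hW, hxW, hle⟩ := exists_isAffineOpen_mem_and_subset (x := x) (U := π ⁻¹ᵁ ⊤) trivial
  let φ := π.appLE ⊤ W hle
  let p := hW.primeIdealOf ⟨x, hxW⟩
  have hpx : hW.fromSpec p = x := hW.fromSpec_primeIdealOf _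
  rw [← hpx] at h
  obtain ⟨b, hb, hβ⟩ := (free_near_iff hF π (isAffineOpen_top X₀) φ hW.fromSpec
    (IsAffineOpen.SpecMap_appLE_fromSpec π (isAffineOpen_top X₀) hW hle).symm n p).1 h
  letI := ((algebraMap Γ(X, W) (Localization.Away b)).comp φ.hom).toAlgebra
  obtain ⟨β⟩ := hβ
  haveI : Nontrivial (Localization.Away b) := by
    obtain ⟨q', -⟩ : p ∈ Set.range (PrimeSpectrum.comap (algebraMap Γ(X, W) (Localization.Away b))) := by
      rw [PrimeSpectrum.localization_away_comap_range (S := Localization.Away b) b]; exact hb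
    exact PrimeSpectrum.nonempty_iff_nontrivial.1 ⟨q'⟩
  have := FittingLib.span_baseChange_eq_top (Localization.Away b) g hg
  let f : (Fin c → Localization.Away b) →ₗ[Localization.Away b] (Fin n → Localization.Away b) :=
    β.equivFun.toLinearMap ∘ₗ Fintype.linearCombination (Localization.Away b) fun i => (1 : Localization.Away b) ⊗ₜ g i
  exact le_of_fin_surjective (Localization.Away b) f (β.equivFun.surjective.comp
    (LinearMap.range_eq_top.1 (by rw [Fintype.range_linearCombination]; exact this)))

omit [Smooth q] [GeometricallyIrreducible q] in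
/-- The dimension at the generic point of a fibre. -/
theorem rd_generic (d : ℕ) [SmoothOfRelativeDimension d q] [LocallyOfFiniteType q] {x : X}
    (hx : FlatFun.IsGenericPtOfFibre q x) : FibDim14.rd q x = d := by
  obtain ⟨x', hx', he, hd, -⟩ := FibDim14.exists_fibreDimAt_eq q x
  rw [(hx'.antisymm (hx x' he)).eq, Groth.Agent.S2768.result d q x] at hd
  exact_mod_cast hd.symm

end Groth.Agent.GenPts4
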