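import Groth.Agent.Lib.CBC10.Near
import Groth.Agent.Lib.ModM1.Fpqc
import Groth.Agent.Lib.Fitting26.Sheaf
import Groth.Prelude.Def_FlatFun
import Mathlib

/-!
# Freeness near a point through an affine chart
-/

set_option autoImplicit false
set_option linter.style.haveILetI false
set_option backward.isDefEq.respectTransparency false
set_option backward.isDefEq.respectTransparency.types false

universe u

open CategoryTheory CategoryTheory.Limits AlgebraicGeometry Opposite
open scoped TensorProduct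

noncomputable section

namespace Groth.Agent.GenPts4

variable {X X' : Scheme.{u}}

/-- Freeness on an affine open chart transfers to the module of sections, and conversely. -/
theorem chart_iff {F : X.Modules} (hF : Coh.IsQCoh F) (π : X' ⟶ X) {U : X.Opens} (hU : IsAffineOpen U)
    {R : CommRingCat.{u}} (φ : Γ(X, U) ⟶ R) (j : Spec R ⟶ X') [IsOpenImmersion j]
    (hj : j ≫ π = Spec.map φ ≫ hU.fromSpec) (p : ℕ) :
    Nonempty (((Scheme.Modules.pullback π).obj F).restrict j ≅ M1.fr (ULift.{u} (Fin p))) ↔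
      (letI := φ.hom.toAlgebra; Nonempty (Module.Basis (Fin p) R (R ⊗[Γ(X, U)] Γ(F, U)))) := by
  letI := φ.hom.toAlgebra
  obtain ⟨e⟩ := M1.nonempty_chart_iso hF π hU φ j hj
  let e' := (Scheme.Modules.restrictFunctorIsoPullback j).app ((Scheme.Modules.pullback π).obj F) ≪≫ e
  let N := moduleSpecΓFunctor.obj (F.restrict hU.fromSpec)
  let E := (ModuleCat.extendScalars φ.hom).obj N
  let e₃ : (R ⊗[Γ(X, U)] (N : Type u)) ≃ₗ[R] (R ⊗[Γ(X, U)] Γ(F, U)) :=
    LinearEquiv.baseChange Γ(X, U) R _ _ (M1.affineSecEquiv F hU)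
  let eE : (E : Type u) ≃ₗ[R] (R ⊗[Γ(X, U)] Γ(F, U)) := e₃
  constructor
  · rintro ⟨i⟩
    let k := (tilde.functor R).preimageIso (e'.symm ≪≫ i ≪≫ (M1.frTildeIso _).symm)
    exact ⟨((Module.Basis.ofRepr (M := (E : Type u)) k.toLinearEquiv).map eE).reindex Equiv.ulift⟩
  · rintro ⟨β⟩
    let b : Module.Basis (ULift.{u} (Fin p)) R (E : Type u) := (β.map eE.symm).reindex Equiv.ulift.symm
    let k : E ≅ ModuleCat.of R (ULift.{u} (Fin p) →₀ R) := b.repr.toModuleIso
    exact ⟨e' ≪≫ (tilde.functor R).mapIso k ≪≫ M1.frTildeIso _⟩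

/-- Freeness near a point of an affine chart. -/
theorem free_near_iff {F : X.Modules} (hF : Coh.IsQCoh F) (π : X' ⟶ X) {U : X.Opens} (hU : IsAffineOpen U)
    {R : CommRingCat.{u}} (φ : Γ(X, U) ⟶ R) (j : Spec R ⟶ X') [IsOpenImmersion j]
    (hj : j ≫ π = Spec.map φ ≫ hU.fromSpec) (p : ℕ) (q : PrimeSpectrum R) :
    FlatFun.IsFreeOfRankNear ((Scheme.Modules.pullback π).obj F) p (j q) ↔
      ∃ b : R, b ∉ q.asIdeal ∧
        (letI := ((algebraMap R (Localization.Away b)).comp φ.hom).toAlgebra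
        Nonempty (Module.Basis (Fin p) (Localization.Away b) (Localization.Away b ⊗[Γ(X, U)] Γ(F, U)))) := by
  have hchart : ∀ b : R,
      Nonempty (((Scheme.Modules.pullback π).obj F).restrict
          (Spec.map (CommRingCat.ofHom (algebraMap R (Localization.Away b))) ≫ j) ≅ M1.fr (ULift.{u} (Fin p))) ↔
        (letI := ((algebraMap R (Localization.Away b)).comp φ.hom).toAlgebra
        Nonempty (Module.Basis (Fin p) (Localization.Away b) (Localization.Away b ⊗[Γ(X, U)] Γ(F, U)))) := fun b => by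
    haveI := IsOpenImmersion.of_isLocalization (S := Localization.Away b) b
    exact chart_iff hF π hU (φ ≫ CommRingCat.ofHom (algebraMap R (Localization.Away b))) _
      (by rw [Category.assoc, hj, Spec.map_comp, Category.assoc]) p
  have hrange : ∀ b : R, Set.range (Spec.map (CommRingCat.ofHom (algebraMap R (Localization.Away b)))) =
      (PrimeSpectrum.basicOpen b : Set (PrimeSpectrum R)) := fun b =>
    PrimeSpectrum.localization_away_comap_range (S := Localization.Away b) b
  constructor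
  · rintro ⟨W, hW, ⟨i⟩⟩
    obtain ⟨_, ⟨b, rfl⟩, hqb, hbW⟩ := PrimeSpectrum.isTopologicalBasis_basic_opens.exists_subset_of_mem_open
      (show q ∈ ((j ⁻¹ᵁ W : (Spec R).Opens) : Set (Spec R)) from hW) (j ⁻¹ᵁ W).isOpen
    haveI := IsOpenImmersion.of_isLocalization (S := Localization.Away b) b
    let j' := Spec.map (CommRingCat.ofHom (algebraMap R (Localization.Away b))) ≫ j
    have h : Set.range j' ⊆ Set.range W.ι := by
      rw [Scheme.Opens.range_ι]
      rintro _ ⟨z, rfl⟩
      rw [Scheme.Hom.comp_apply]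
      exact hbW ((Set.ext_iff.1 (hrange b) _).1 (Set.mem_range_self z))
    refine ⟨b, hqb, (hchart b).1 ⟨?_⟩⟩
    exact (M1.restrictLiftIso _ W.ι j' h).symm ≪≫
      (Scheme.Modules.restrictFunctor (IsOpenImmersion.lift W.ι j' h)).mapIso (i ≪≫ M1.freeModFrIso _ p) ≪≫
        (M1.frRestrictIso (IsOpenImmersion.lift W.ι j' h) _).symm
  · rintro ⟨b, hb, hβ⟩
    haveI := IsOpenImmersion.of_isLocalization (S := Localization.Away b) b
    obtain ⟨i⟩ := (hchart b).2 hβ
    obtain ⟨z, hz⟩ : q ∈ Set.range (Spec.map (CommRingCat.ofHom (algebraMap R (Localization.Away b)))) :=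
      (hrange b).symm ▸ hb
    obtain ⟨W, hW, hi⟩ := CBC10.exists_open_freeMod _ i z
    exact ⟨W, by rwa [Scheme.Hom.comp_apply, hz] at hW, hi⟩

end Groth.Agent.GenPts4
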