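import Groth.Prelude.Def_FlatCA
import Groth.Agent.Lib.RG4.Domain
import Groth.Agent.Lib.RG4.Generic
import Groth.Agent.Lib.FlatFibInj.Main
import Groth.Agent.Lib.Fitting.More
import Mathlib

/-!
# Freeness through coordinates, and vanishing near the generic points of the fibres
-/

set_option autoImplicit false
set_option linter.style.haveILetI false
set_option backward.isDefEq.respectTransparency.types false

universe u

open scoped TensorProduct

noncomputable section

namespace Groth.Agent.GenPts4

section Coord

variable {B M : Type u} [CommRing B] [AddCommGroup M] [Module B M] {p : ℕ}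

/-- The ideal of the coefficients of the relations between the elements of a tuple. -/
def coordIdeal (x : Fin p → M) : Ideal B :=
  Ideal.span {b | ∃ v : Fin p → B, ∑ i, v i • x i = 0 ∧ ∃ i, v i = b}

/-- The base change of a module generated by `p` elements is free of rank `p` when the coefficients of the
relations vanish. -/
theorem nonempty_basis_iff (x : Fin p → M) (hx : Submodule.span B (Set.range x) = ⊤) (B' : Type u) [CommRing B']
    [Algebra B B'] :
    Nonempty (Module.Basis (Fin p) B' (B' ⊗[B] M)) ↔ ∀ b ∈ coordIdeal (B := B) x, algebraMap B B' b = 0 := by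
  classical
  let f : (Fin p → B') →ₗ[B'] B' ⊗[B] M := Fintype.linearCombination B' fun i => (1 : B') ⊗ₜ[B] x i
  have hf : Function.Surjective f := by
    rw [← LinearMap.range_eq_top, Fintype.range_linearCombination]
    exact FittingLib.span_baseChange_eq_top B' x hx
  constructor
  · rintro ⟨β⟩
    have hinj : Function.Injective f := by
      have h : Function.Injective (β.equivFun.toLinearMap ∘ₗ f) :=
        OrzechProperty.injective_of_surjective_endomorphism _ (β.equivFun.surjective.comp hf)
      intro a b hab
      exact h (congrArg β.equivFun hab)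
    suffices coordIdeal (B := B) x ≤ RingHom.ker (algebraMap B B') from fun b hb => this hb
    rw [coordIdeal, Ideal.span_le]
    rintro _ ⟨v, hv, i, rfl⟩
    have h0 : f (fun j => algebraMap B B' (v j)) = 0 := by
      simp only [f, Fintype.linearCombination_apply, algebraMap_smul, ← TensorProduct.tmul_smul,
        ← TensorProduct.tmul_sum, hv, TensorProduct.tmul_zero]
    exact congrFun (hinj (h0.trans (map_zero f).symm)) i
  · intro h
    let π : (Fin p → B) →ₗ[B] M := Fintype.linearCombination B x
    have hπ : Function.Surjective π := by rw [← LinearMap.range_eq_top, Fintype.range_linearCombination, hx]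
    let q : (Fin p → B) →ₗ[B] (Fin p → B') := LinearMap.pi fun i => Algebra.linearMap B B' ∘ₗ LinearMap.proj i
    have hq : LinearMap.ker π ≤ LinearMap.ker q := fun v hv => by
      ext i
      exact h _ (Ideal.subset_span ⟨v, hv, i, rfl⟩)
    let g : M →ₗ[B] (Fin p → B') :=
      (LinearMap.ker π).liftQ q hq ∘ₗ (π.quotKerEquivOfSurjective hπ).symm.toLinearMap
    have hg : ∀ v, g (π v) = q v := fun v => by
      have he : (π.quotKerEquivOfSurjective hπ).symm (π v) = Submodule.Quotient.mk v := by
        rw [LinearEquiv.symm_apply_eq]; rfl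
      show (LinearMap.ker π).liftQ q hq ((π.quotKerEquivOfSurjective hπ).symm (π v)) = q v
      rw [he]; rfl
    let G : B' ⊗[B] M →ₗ[B'] (Fin p → B') := g.liftBaseChange B'
    have hGf : G ∘ₗ f = LinearMap.id := by
      refine LinearMap.pi_ext' fun i => LinearMap.ext_ring ?_
      have hxi : x i = π (Pi.single i 1) := by simp [π]
      show G (f (Pi.single i 1)) = Pi.single i 1
      rw [show f (Pi.single i 1) = (1 : B') ⊗ₜ[B] x i by simp [f], LinearMap.liftBaseChange_tmul, one_smul, hxi, hg]
      ext j
      show algebraMap B B' (Pi.single (M := fun _ => B) i 1 j) = _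
      rw [Pi.single_apply, Pi.single_apply, apply_ite (algebraMap B B'), map_one, map_zero]
    exact ⟨Module.Basis.ofEquivFun (LinearEquiv.ofBijective f
      ⟨Function.LeftInverse.injective fun a => LinearMap.congr_fun hGf a, hf⟩).symm⟩

theorem coordIdeal_fg [Module.FinitePresentation B M] (x : Fin p → M) (hx : Submodule.span B (Set.range x) = ⊤) :
    (coordIdeal (B := B) x).FG := by
  classical
  let π : (Fin p → B) →ₗ[B] M := Fintype.linearCombination B x
  have hπ : Function.Surjective π := by rw [← LinearMap.range_eq_top, Fintype.range_linearCombination, hx]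
  obtain ⟨T, hT⟩ := Module.FinitePresentation.fg_ker π hπ
  refine ⟨(T ×ˢ (Finset.univ : Finset (Fin p))).image fun z => z.1 z.2, le_antisymm (Ideal.span_le.2 ?_) (Ideal.span_le.2 ?_)⟩
  · intro b hb
    obtain ⟨⟨v, i⟩, hz, rfl⟩ := Finset.mem_image.1 hb
    have hv : v ∈ LinearMap.ker π := hT ▸ Submodule.subset_span (Finset.mem_product.1 hz).1
    exact Ideal.subset_span ⟨v, hv, i, rfl⟩
  · rintro _ ⟨v, hv, i, rfl⟩
    have hv' : v ∈ Submodule.span B (T : Set (Fin p → B)) := hT ▸ (show v ∈ LinearMap.ker π from hv)
    clear hv
    induction hv' using Submodule.span_induction with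
    | mem v hv => exact Ideal.subset_span (Finset.mem_image.2 ⟨(v, i), Finset.mem_product.2 ⟨hv, Finset.mem_univ i⟩, rfl⟩)
    | zero => exact zero_mem _
    | add a b _ _ ha hb => exact add_mem ha hb
    | smul c a _ ha => exact Ideal.mul_mem_left _ c ha

end Coord

section Dense

attribute [local instance] Algebra.TensorProduct.rightAlgebra

/-- For a smooth algebra with geometrically irreducible fibres an element vanishing near a point of every fibre
vanishes. -/
theorem eq_zero_of_dense {C R : Type u} [CommRing C] [CommRing R] [Algebra C R] [Algebra.Smooth C R]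
    (hR : FlatCA.GeomIrredFibres C R) (z : R)
    (h : ∀ P : PrimeSpectrum C, ∃ (q : PrimeSpectrum R) (b : R),
      PrimeSpectrum.comap (algebraMap C R) q = P ∧ b ∉ q.asIdeal ∧ algebraMap R (Localization.Away b) z = 0) :
    z = 0 := by
  classical
  choose q b hq hb hz using h
  let O : PrimeSpectrum C → Set (PrimeSpectrum C) := fun P =>
    PrimeSpectrum.comap (algebraMap C R) '' (PrimeSpectrum.basicOpen (b P) : Set (PrimeSpectrum R))
  have hO : ∀ P, IsOpen (O P) := fun P =>
    PrimeSpectrum.isOpenMap_comap_of_hasGoingDown_of_finitePresentation _ (PrimeSpectrum.basicOpen (b P)).isOpen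
  obtain ⟨t, ht⟩ := isCompact_univ.elim_finite_subcover O hO fun P _ =>
    Set.mem_iUnion.2 ⟨P, q P, hb P, hq P⟩
  let M : Type u := (i : t) → Localization.Away (b i.1)
  haveI : ∀ i : t, Module.Flat R (Localization.Away (b i.1)) := fun i =>
    IsLocalization.flat _ (Submonoid.powers (b i.1))
  haveI : ∀ i : t, Module.Flat C (Localization.Away (b i.1)) := fun i =>
    Module.Flat.trans C R _
  let u : R →ₗ[C] M := LinearMap.pi fun i => (IsScalarTower.toAlgHom C R (Localization.Away (b i.1))).toLinearMap
  haveI : IsLocalization (⊥ : Submonoid R) R := IsLocalization.self bot_le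
  haveI : Module.Flat C M :=
    Module.Flat.of_linearEquiv (DFinsupp.linearEquivFunOnFintype (R := C) (M := fun i : t => Localization.Away (b i.1))).symm
  have hu : ∀ (P : Ideal C) [P.IsPrime], Function.Injective (u.lTensor P.ResidueField) := by
    intro P _
    rw [injective_iff_map_eq_zero]
    intro ξ hξ
    obtain ⟨i, hi, q', hq', hq'P⟩ : ∃ i, i ∈ t ∧ ∃ q', b i ∉ (q' : PrimeSpectrum R).asIdeal ∧
        PrimeSpectrum.comap (algebraMap C R) q' = ⟨P, ‹_›⟩ := by
      have := ht (Set.mem_univ (⟨P, ‹_›⟩ : PrimeSpectrum C))
      simp only [Set.mem_iUnion, exists_prop] at this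
      obtain ⟨i, hi, q', hq', he⟩ := this
      exact ⟨i, hi, q', hq', he⟩
    haveI : q'.asIdeal.LiesOver P := ⟨(congrArg PrimeSpectrum.asIdeal hq'P).symm⟩
    obtain ⟨Q, hQ⟩ := RG4.exists_fiber_point P q'.asIdeal
    haveI := RG4.isDomain_fiber_of_smooth hR P
    let F := P.Fiber R
    let K := FractionRing F
    let g : R →ₐ[C] K := (IsScalarTower.toAlgHom C F K).comp Algebra.TensorProduct.includeRight
    have hgb : IsUnit (g (b i)) := by
      refine isUnit_iff_ne_zero.2 fun h0 => hq' ?_
      have h1 : algebraMap R F (b i) = 0 := IsFractionRing.injective F K (h0.trans (map_zero _).symm)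
      rw [← hQ, Ideal.mem_comap, h1]
      exact zero_mem _
    let G₀ : Localization.Away (b i) →+* K := IsLocalization.Away.lift (b i) (g := g.toRingHom) hgb
    have hG₀ : ∀ r : R, G₀ (algebraMap R _ r) = g r := fun r => IsLocalization.Away.lift_eq (b i) hgb r
    have hGc : ∀ c : C, G₀ (algebraMap C _ c) = algebraMap C K c := fun c => by
      rw [IsScalarTower.algebraMap_apply C R (Localization.Away (b i)), hG₀, g.commutes]
    let G : Localization.Away (b i) →ₐ[C] K := AlgHom.mk G₀ hGc
    let Φ : P.ResidueField ⊗[C] Localization.Away (b i) →ₐ[C] K :=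
      Algebra.TensorProduct.lift (IsScalarTower.toAlgHom C P.ResidueField K) G fun _ _ => Commute.all _ _
    have key : ∀ w : P.ResidueField ⊗[C] R,
        Φ (((LinearMap.proj (⟨i, hi⟩ : t)) ∘ₗ u).lTensor P.ResidueField w) = algebraMap F K w := by
      intro w
      induction w using TensorProduct.induction_on with
      | zero => simp
      | add a c ha hc => rw [map_add, map_add, ha, hc, map_add]
      | tmul k r =>
        show Φ (k ⊗ₜ algebraMap R _ r) = _
        rw [Algebra.TensorProduct.lift_tmul]
        show algebraMap P.ResidueField K k * G₀ (algebraMap R _ r) = _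
        rw [hG₀, IsScalarTower.algebraMap_apply P.ResidueField F K]
        show _ * algebraMap F K (1 ⊗ₜ r) = _
        rw [← map_mul]
        congr 1
        show (k ⊗ₜ[C] (1 : R)) * ((1 : P.ResidueField) ⊗ₜ r) = _
        rw [Algebra.TensorProduct.tmul_mul_tmul, mul_one, one_mul]
    refine IsFractionRing.injective F K ?_
    rw [map_zero, ← key, LinearMap.lTensor_comp, LinearMap.comp_apply, hξ, map_zero, map_zero]
  have hinj := FlatFibInj.injective_lTensor_of_fibres (B := R) (L := R) (⊥ : Submonoid R) u hu C
  have huz : u z = 0 := by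
    funext i
    exact hz i.1
  have h1 : (1 : C) ⊗ₜ[C] z = 0 := hinj (by rw [LinearMap.lTensor_tmul, huz, TensorProduct.tmul_zero, map_zero])
  simpa using congrArg (TensorProduct.lid C R) h1

end Dense

end Groth.Agent.GenPts4
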