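import Groth.Agent.Lib.FpqcFun14.Stalk
import Groth.Agent.Lib.CBC10.Near
import Groth.Agent.Lib.TensorMod.Invertible
import Groth.Prelude.Def_FlatFun
import Mathlib

/-!
# Generic points of the fibres and the condition `H_p`
-/

set_option autoImplicit false
set_option linter.style.haveILetI false
set_option backward.isDefEq.respectTransparency false
set_option backward.isDefEq.respectTransparency.types false

universe u

open CategoryTheory CategoryTheory.Limits AlgebraicGeometry Opposite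

noncomputable section

namespace Groth.Agent.GenPts4

theorem exists_generic {X T : Scheme.{u}} (q : X ⟶ T) [GeometricallyIrreducible q] (t : T) :
    ∃ x : X, q x = t ∧ FlatFun.IsGenericPtOfFibre q x := by
  let η := genericPoint (q.fiber t)
  have h1 : q (q.fiberι t η) = t := (q.range_fiberι t).le ⟨η, rfl⟩
  refine ⟨q.fiberι t η, h1, fun x' hx' => ?_⟩
  obtain ⟨z, rfl⟩ : x' ∈ Set.range (q.fiberι t) := by
    rw [q.range_fiberι]; exact hx'.trans h1
  exact ((genericPoint_spec (q.fiber t)).specializes (by exact Set.mem_univ z)).map (q.fiberι t).continuous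

/-- The generic point of a fibre lies in every open meeting the fibre. -/
theorem mem_of_generic {X T : Scheme.{u}} {q : X ⟶ T} {x : X} (hx : FlatFun.IsGenericPtOfFibre q x) {y : X}
    (h : q y = q x) (O : X.Opens) (hy : y ∈ O) : x ∈ O :=
  (hx y h).mem_open O.isOpen hy

/-- The image of a generic point of a fibre under a base change is the generic point of the image fibre. -/
theorem generic_map {X X' T T' : Scheme.{u}} {g : X' ⟶ X} {q' : X' ⟶ T'} {q : X ⟶ T} {k : T' ⟶ T}
    (h : IsPullback g q' q k) {z : X'} (hz : FlatFun.IsGenericPtOfFibre q' z) :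
    FlatFun.IsGenericPtOfFibre q (g z) := by
  intro y hy
  have hw : q (g z) = k (q' z) := by rw [← Scheme.Hom.comp_apply, h.w, Scheme.Hom.comp_apply]
  obtain ⟨y', hy₁, hy₂⟩ := Scheme.exists_preimage_of_isPullback h y (q' z) (hy.trans hw)
  exact hy₁ ▸ (hz y' hy₂).map g.continuous

theorem isFreeOfRankNear_of_iso {X : Scheme.{u}} {M N : X.Modules} (e : M ≅ N) {p : ℕ} {x : X}
    (h : FlatFun.IsFreeOfRankNear M p x) : FlatFun.IsFreeOfRankNear N p x := by
  obtain ⟨U, hU, ⟨i⟩⟩ := h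
  exact ⟨U, hU, ⟨((Scheme.Modules.restrictFunctor U.ι).mapIso e).symm ≪≫ i⟩⟩

theorem isFreeOfRankNear_pullback {X Y : Scheme.{u}} (g : Y ⟶ X) {M : X.Modules} {p : ℕ} {y : Y}
    (h : FlatFun.IsFreeOfRankNear M p (g y)) : FlatFun.IsFreeOfRankNear ((Scheme.Modules.pullback g).obj M) p y := by
  obtain ⟨U, hU, ⟨i⟩⟩ := h
  exact ⟨g ⁻¹ᵁ U, hU, ⟨M2.pullbackRestrictIso g M U ≪≫ (Scheme.Modules.pullback _).mapIso i ≪≫
    M2.freeModPullbackIso _ p⟩⟩

theorem isFreeOfRankNear_of_openImm {X Y : Scheme.{u}} (g : Y ⟶ X) [IsOpenImmersion g] {M : X.Modules} {p : ℕ}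
    {y : Y} (h : FlatFun.IsFreeOfRankNear ((Scheme.Modules.pullback g).obj M) p y) :
    FlatFun.IsFreeOfRankNear M p (g y) := by
  obtain ⟨U, hU, ⟨i⟩⟩ := h
  obtain ⟨W, hW, hi⟩ := CBC10.exists_open_freeMod (U.ι ≫ g)
    ((M1.restrictRestrictIso M g U.ι (U.ι ≫ g) rfl).symm ≪≫
      (Scheme.Modules.restrictFunctor U.ι).mapIso ((Scheme.Modules.restrictFunctorIsoPullback g).app M) ≪≫
        i ≪≫ M1.freeModFrIso _ p) ⟨y, hU⟩
  exact ⟨W, hW, hi⟩

variable {X S : Scheme.{u}} (f : X ⟶ S) (F : X.Modules) (p : ℕ)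

/-- The condition `H_p`. -/
def P (T : Over S) : Prop := FlatFun.FreeAtGenericPts (PicF.XTproj f T) (FGA.ET f F T) p

variable [GeometricallyIrreducible f]

theorem geomIrred_XTproj (T : Over S) : GeometricallyIrreducible (PicF.XTproj f T) :=
  MorphismProperty.pullback_snd _ _ ‹_›

theorem P_of_hom ⦃T T₀ : Over S⦄ (k : T ⟶ T₀) (h : P f F p T₀) : P f F p T := by
  intro t
  haveI := geomIrred_XTproj f T
  obtain ⟨z, hz, hzg⟩ := exists_generic (PicF.XTproj f T) t
  obtain ⟨x, hx, hxg, U, hxU, hfree⟩ := h (k.left t)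
  have hsq := HilbBC25.isPullback_XTmap f k
  have hw : PicF.XTproj f T₀ (PicF.XTmap f k z) = k.left t := by
    rw [← Scheme.Hom.comp_apply, hsq.w, Scheme.Hom.comp_apply, hz]
  have hmem : PicF.XTmap f k z ∈ U := mem_of_generic (generic_map hsq hzg) (hx.trans hw.symm) U hxU
  exact ⟨z, hz, hzg, isFreeOfRankNear_of_iso (FpqcFun14.ETIso f F k) (isFreeOfRankNear_pullback _ ⟨U, hmem, hfree⟩)⟩

theorem P_of_openImm (T : Over S) (h : ∀ t : T.left, ∃ (T' : Over S) (k : T' ⟶ T),
    IsOpenImmersion k.left ∧ t ∈ Set.range k.left ∧ P f F p T') : P f F p T := by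
  intro t
  obtain ⟨T', k, hk, ⟨t', ht⟩, hT'⟩ := h t
  obtain ⟨z, hz, hzg, hfree⟩ := hT' t'
  have hsq := HilbBC25.isPullback_XTmap f k
  haveI : IsOpenImmersion (PicF.XTmap f k) := MorphismProperty.of_isPullback hsq.flip hk
  refine ⟨PicF.XTmap f k z, ?_, generic_map hsq hzg, ?_⟩
  · show PicF.XTproj f T (PicF.XTmap f k z) = t
    rw [← Scheme.Hom.comp_apply, hsq.w, Scheme.Hom.comp_apply]
    exact (congrArg k.left hz).trans ht
  · exact isFreeOfRankNear_of_openImm _ (isFreeOfRankNear_of_iso (FpqcFun14.ETIso f F k).symm hfree)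

end Groth.Agent.GenPts4
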