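import Groth.Agent.Lib.GenPts4.Alg
import Groth.Agent.Lib.GenPts4.Near
import Groth.Agent.Lib.GenPts4.Points
import Groth.Agent.Lib.Dev4.SmoothProjective
import Groth.Agent.Lib.WeilClosed4.Basic
import Mathlib

/-!
# The criterion on a chart
-/

set_option autoImplicit false
set_option linter.style.haveILetI false
set_option backward.isDefEq.respectTransparency false
set_option backward.isDefEq.respectTransparency.types false

universe u

open CategoryTheory CategoryTheory.Limits AlgebraicGeometry Opposite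
open scoped TensorProduct

noncomputable section

namespace Groth.Agent.GenPts4

variable {X S : Scheme.{u}} (f : X ⟶ S) (F : X.Modules) (p : ℕ)

/-- A chart: an affine open of `X` over an affine open of `S` with surjective fibres and `p` generators. -/
structure Datum : Type u where
  /-- the open of the base -/
  V : S.affineOpens
  /-- the open of the source -/
  U : X.affineOpens
  le : U.1 ≤ f ⁻¹ᵁ V.1
  surj : ∀ v ∈ V.1, ∃ u ∈ U.1, f u = v
  /-- the generators -/
  x : Fin p → Γ(F, U.1)
  span : Submodule.span Γ(X, U.1) (Set.range x) = ⊤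

variable {f F p} (D : Datum f F p)

/-- The algebra of a chart. -/
@[reducible] def Datum.algebra : Algebra Γ(S, D.V.1) Γ(X, D.U.1) := (f.appLE D.V.1 D.U.1 D.le).hom.toAlgebra

theorem Datum.smooth [Smooth f] : letI := D.algebra; Algebra.Smooth Γ(S, D.V.1) Γ(X, D.U.1) := by
  letI := D.algebra
  exact RingHom.smooth_algebraMap.1 (Smooth.smooth_appLE f D.V.2 D.U.2 D.le)

theorem Datum.fac : letI := D.algebra;
    Spec.map (CommRingCat.ofHom (algebraMap Γ(S, D.V.1) Γ(X, D.U.1))) ≫ D.V.2.fromSpec = D.U.2.fromSpec ≫ f :=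
  IsAffineOpen.SpecMap_appLE_fromSpec f D.V.2 D.U.2 D.le

theorem Datum.geomIrred [GeometricallyIrreducible f] :
    letI := D.algebra; FlatCA.GeomIrredFibres Γ(S, D.V.1) Γ(X, D.U.1) := by
  letI := D.algebra
  let φ := Spec.map (CommRingCat.ofHom (algebraMap Γ(S, D.V.1) Γ(X, D.U.1)))
  haveI : Surjective φ := ⟨fun v => by
    have hv : D.V.2.fromSpec v ∈ D.V.1 := by
      rw [← SetLike.mem_coe, ← D.V.2.range_fromSpec]; exact ⟨v, rfl⟩
    obtain ⟨w, hw, hfw⟩ := D.surj _ hv
    obtain ⟨y, rfl⟩ : w ∈ Set.range D.U.2.fromSpec := by rw [D.U.2.range_fromSpec]; exact hw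
    refine ⟨y, D.V.2.fromSpec.injective ?_⟩
    exact (Scheme.Hom.comp_apply _ _ _).symm.trans
      ((congrArg (fun m : Spec Γ(X, D.U.1) ⟶ S => m y) D.fac).trans ((Scheme.Hom.comp_apply _ _ _).trans hfw))⟩
  let l : Spec Γ(X, D.U.1) ⟶ pullback f D.V.2.fromSpec := pullback.lift D.U.2.fromSpec φ D.fac.symm
  haveI : GeometricallyIrreducible (pullback.snd f D.V.2.fromSpec) := MorphismProperty.pullback_snd _ _ ‹_›
  haveI : IsOpenImmersion (l ≫ pullback.fst f D.V.2.fromSpec) := by rw [pullback.lift_fst]; infer_instance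
  haveI : IsOpenImmersion l := IsOpenImmersion.of_comp l (pullback.fst f D.V.2.fromSpec)
  haveI : Surjective (l ≫ pullback.snd f D.V.2.fromSpec) := by rw [pullback.lift_snd]; infer_instance
  show GeometricallyIrreducible φ
  rw [← pullback.lift_snd D.U.2.fromSpec φ D.fac.symm]
  infer_instance

theorem Datum.projective [Smooth f] [GeometricallyIrreducible f] :
    letI := D.algebra; Module.Projective Γ(S, D.V.1) Γ(X, D.U.1) := by
  letI := D.algebra
  haveI := D.smooth
  exact Dev4.projective_of_smooth D.geomIrred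

/-- The scheme over `S` of an algebra over the chart. -/
abbrev Datum.base (C : Type u) [CommRing C] [Algebra Γ(S, D.V.1) C] : Over S :=
  Over.mk (Spec.map (CommRingCat.ofHom (algebraMap Γ(S, D.V.1) C)) ≫ D.V.2.fromSpec)

/-- Over a chart the condition is the vanishing of the coefficients of the relations. -/
theorem Datum.P_base_iff [Smooth f] [GeometricallyIrreducible f] (hF : Coh.IsQCoh F) (C : Type u) [CommRing C]
    [Algebra Γ(S, D.V.1) C] :
    P f F p (D.base C) ↔ (letI := D.algebra
      coordIdeal (B := Γ(X, D.U.1)) D.x ≤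
        RingHom.ker (Algebra.TensorProduct.includeRight : Γ(X, D.U.1) →ₐ[Γ(S, D.V.1)] C ⊗[Γ(S, D.V.1)] Γ(X, D.U.1))) := by
  letI := D.algebra
  haveI := D.smooth
  let A := Γ(S, D.V.1)
  let B := Γ(X, D.U.1)
  let R := C ⊗[A] B
  let ρ : B →+* R := (Algebra.TensorProduct.includeRight : B →ₐ[A] R).toRingHom
  have hR : FlatCA.GeomIrredFibres C R := RG4.geomIrredFibres_baseChange C D.geomIrred
  let e := pullbackSymmetry (Spec.map (CommRingCat.ofHom (algebraMap A B)))
    (Spec.map (CommRingCat.ofHom (algebraMap A C))) ≪≫ pullbackSpecIso A C B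
  let m : pullback (Spec.map (CommRingCat.ofHom (algebraMap A B))) (Spec.map (CommRingCat.ofHom (algebraMap A C))) ⟶
      pullback f (D.base C).hom :=
    pullback.map _ _ f (D.base C).hom D.U.2.fromSpec (𝟙 _) D.V.2.fromSpec D.fac
      (by rw [Category.id_comp]; rfl)
  let j : Spec (CommRingCat.of R) ⟶ PicF.XT f (D.base C) := e.inv ≫ m
  haveI : IsOpenImmersion j := inferInstanceAs (IsOpenImmersion (e.inv ≫ m))
  have hj : j ≫ pullback.fst f (D.base C).hom = Spec.map (CommRingCat.ofHom ρ) ≫ D.U.2.fromSpec := by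
    show (e.inv ≫ m) ≫ _ = _
    simp only [m, pullback.map, Category.assoc, pullback.lift_fst]
    rw [← Category.assoc]
    congr 1
    simp only [e, Iso.trans_inv, Category.assoc]
    exact (congrArg _ (pullbackSymmetry_inv_comp_fst _ _)).trans (pullbackSpecIso_inv_snd A C B)
  have hj' : j ≫ PicF.XTproj f (D.base C) = Spec.map (CommRingCat.ofHom (algebraMap C R)) := by
    show (e.inv ≫ m) ≫ pullback.snd f (D.base C).hom = _
    simp only [m, pullback.map, Category.assoc, pullback.lift_snd, Category.comp_id]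
    simp only [e, Iso.trans_inv, Category.assoc]
    exact (congrArg _ (pullbackSymmetry_inv_comp_snd _ _)).trans (pullbackSpecIso_inv_fst A C B)
  haveI : GeometricallyIrreducible (Spec.map (CommRingCat.ofHom (algebraMap C R))) := hR
  have hmem : ∀ (z : PicF.XT f (D.base C)), FlatFun.IsGenericPtOfFibre (PicF.XTproj f (D.base C)) z →
      ∃ q, j q = z := by
    intro z hz
    obtain ⟨q, hq⟩ := (Spec.map (CommRingCat.ofHom (algebraMap C R))).surjective (PicF.XTproj f (D.base C) z)
    have h : z ∈ j.opensRange := mem_of_generic hz (y := j q)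
      (by rw [← Scheme.Hom.comp_apply, hj']; exact hq) _ ⟨q, rfl⟩
    exact h
  have hnear : ∀ q : PrimeSpectrum R,
      FlatFun.IsFreeOfRankNear (FGA.ET f F (D.base C)) p (j q) ↔ ∃ b : R, b ∉ q.asIdeal ∧
        ∀ a ∈ coordIdeal (B := B) D.x, algebraMap R (Localization.Away b) (ρ a) = 0 := by
    intro q
    refine (free_near_iff hF (pullback.fst f (D.base C).hom) D.U.2 (R := CommRingCat.of R) (CommRingCat.ofHom ρ) j hj p q).trans ?_
    refine exists_congr fun b => and_congr_right fun _ => ?_
    exact @nonempty_basis_iff B _ _ _ _ p D.x D.span (Localization.Away b) _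
      ((algebraMap R (Localization.Away b)).comp ρ).toAlgebra
  haveI := geomIrred_XTproj f (D.base C)
  constructor
  · intro hP a ha
    refine eq_zero_of_dense hR (ρ a) fun t => ?_
    obtain ⟨z, hz, hzg, hfree⟩ := hP t
    obtain ⟨q, rfl⟩ := hmem z hzg
    obtain ⟨b, hb, hba⟩ := (hnear q).1 hfree
    refine ⟨q, b, ?_, hb, hba a ha⟩
    rw [← Scheme.Hom.comp_apply, hj'] at hz
    exact hz
  · intro h t
    obtain ⟨z, hz, hzg⟩ := exists_generic (PicF.XTproj f (D.base C)) t
    obtain ⟨q, rfl⟩ := hmem z hzg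
    exact ⟨j q, hz, hzg, (hnear q).2 ⟨1, fun h1 => q.isPrime.ne_top ((Ideal.eq_top_iff_one _).2 h1), fun a ha => by
      rw [show ρ a = 0 from h ha, map_zero]⟩⟩

/-- The content ideal of a chart. -/
theorem Datum.exists_content [Smooth f] [GeometricallyIrreducible f] (hF : Coh.IsQCoh F) :
    ∃ c : Ideal Γ(S, D.V.1), (CohB1.IsFP F → c.FG) ∧ ∀ (C : Type u) [CommRing C] [Algebra Γ(S, D.V.1) C],
      P f F p (D.base C) ↔ ∀ r ∈ c, algebraMap Γ(S, D.V.1) C r = 0 := by
  letI := D.algebra
  haveI := D.projective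
  obtain ⟨c, hcfg, hc⟩ := WeilClosed4.exists_content_ideal (A := Γ(S, D.V.1)) (coordIdeal (B := Γ(X, D.U.1)) D.x)
  refine ⟨c, fun hfp => hcfg ?_, fun C _ _ => (D.P_base_iff hF C).trans (hc C)⟩
  haveI := M1.finitePresentation_sections hfp D.U.2
  exact coordIdeal_fg D.x D.span

end Groth.Agent.GenPts4
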