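import Groth.Agent.Lib.GenPts4.Strata

/-!
# `F_d` decomposes into the `H_p`
-/

set_option autoImplicit false
set_option linter.style.haveILetI false
set_option backward.isDefEq.respectTransparency false
set_option backward.isDefEq.respectTransparency.types false

universe u

open CategoryTheory CategoryTheory.Limits AlgebraicGeometry Opposite

noncomputable section

namespace Groth.Agent.GenPts4

variable {X S : Scheme.{u}} [IsAffine X] (f : X ⟶ S) (d : ℕ) [SmoothOfRelativeDimension d f]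
  [GeometricallyIrreducible f] (F : X.Modules)

theorem exists_bound (hF : CohB1.IsFP F) : ∃ c : ℕ, ∀ T : Over S,
    FpqcFun4.P f F d T ↔ ∀ t : T.left, ∃ (V : T.left.Opens) (p : ℕ), t ∈ V ∧ p ≤ c ∧
      P f F p (Over.mk (V.ι ≫ T.hom)) := by
  have hq := M1.isFP_isQCoh hF
  haveI := M1.finite_sections hq (M1.isFP_isFT hF) (isAffineOpen_top X)
  obtain ⟨c, g, hg⟩ := FittingLib.exists_generators (R := Γ(X, ⊤)) (M := Γ(F, ⊤))
  refine ⟨c, fun T => ?_⟩
  haveI : Smooth f := SmoothOfRelativeDimension.smooth d f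
  haveI := geomIrred_XTproj f T
  haveI := smoothOfRelativeDimension_isStableUnderBaseChange (n := d)
  haveI : SmoothOfRelativeDimension d (PicF.XTproj f T) := MorphismProperty.pullback_snd _ _ ‹_›
  haveI : Smooth (PicF.XTproj f T) := SmoothOfRelativeDimension.smooth d _
  haveI : LocallyOfFiniteType (PicF.XTproj f T) := inferInstance
  constructor
  · intro hT t
    obtain ⟨x, hx, hxg⟩ := exists_generic (PicF.XTproj f T) t
    have hfl : FlatMod.IsFlatOverAt (PicF.XTproj f T) (FGA.ET f F T) x := by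
      by_contra h
      exact (((FpqcFun4.trdeg_lt_iff (PicF.XTproj f T) d x).1 (hT x h)).ne (rd_generic _ d hxg))
    obtain ⟨n, U, hxU, hfree⟩ := exists_free_of_flat _ (M1.isFP_pullback _ hF) hxg hfl
    let V : T.left.Opens := ⟨PicF.XTproj f T '' (U : Set (PicF.XT f T)), (PicF.XTproj f T).isOpenMap _ U.isOpen⟩
    refine ⟨V, n, ⟨x, hxU, hx⟩, rank_le_of_span (pullback.fst f T.hom) hq g hg ⟨U, hxU, hfree⟩, fun t' => ?_⟩
    let k : Over.mk (V.ι ≫ T.hom) ⟶ T := Over.homMk V.ι rfl
    haveI := geomIrred_XTproj f (Over.mk (V.ι ≫ T.hom))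
    obtain ⟨z, hz, hzg⟩ := exists_generic (PicF.XTproj f (Over.mk (V.ι ≫ T.hom))) t'
    obtain ⟨y, hyU, hy⟩ := t'.2
    have hsq := HilbBC25.isPullback_XTmap f k
    have hw : PicF.XTproj f T (PicF.XTmap f k z) = V.ι t' := by
      rw [← Scheme.Hom.comp_apply, hsq.w, Scheme.Hom.comp_apply]
      exact congrArg k.left hz
    refine ⟨z, hz, hzg, isFreeOfRankNear_of_iso (FpqcFun14.ETIso f F k)
      (isFreeOfRankNear_pullback _ ⟨U, ?_, hfree⟩)⟩
    exact mem_of_generic (generic_map hsq hzg) (hy.trans hw.symm) U hyU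
  · intro h x hbad
    obtain ⟨V, p, htV, -, hP⟩ := h (PicF.XTproj f T x)
    let k : Over.mk (V.ι ≫ T.hom) ⟶ T := Over.homMk V.ι rfl
    obtain ⟨z, hz, hzg, hfree⟩ := hP ⟨_, htV⟩
    have hsq := HilbBC25.isPullback_XTmap f k
    haveI : IsOpenImmersion (PicF.XTmap f k) := MorphismProperty.of_isPullback hsq.flip
      (inferInstanceAs (IsOpenImmersion V.ι))
    have hgen := generic_map hsq hzg
    have hfree' := isFreeOfRankNear_of_openImm _ (isFreeOfRankNear_of_iso (FpqcFun14.ETIso f F k).symm hfree)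
    have hw : PicF.XTproj f T (PicF.XTmap f k z) = PicF.XTproj f T x := by
      rw [← Scheme.Hom.comp_apply, hsq.w, Scheme.Hom.comp_apply]
      exact congrArg k.left hz
    have hne : PicF.XTmap f k z ≠ x := fun e => hbad (e ▸ isFlatOverAt_of_free _ (M1.isQCoh_pullback _ hq) hfree')
    refine (FpqcFun4.trdeg_lt_iff (PicF.XTproj f T) d x).2 ?_
    have := FibDim14.rd_lt_of_specializes (f := PicF.XTproj f T) (hgen x hw.symm) hne hw
    rwa [rd_generic _ d hgen] at this

end Groth.Agent.GenPts4
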