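import Groth.Agent.Lib.GenPts4.Chart
import Groth.Agent.Lib.Fitting26.Sheaf
import Mathlib

/-!
# Charts around the points where the fibre rank is at most `p`
-/

set_option autoImplicit false
set_option linter.style.haveILetI false
set_option backward.isDefEq.respectTransparency false
set_option backward.isDefEq.respectTransparency.types false

universe u

open CategoryTheory CategoryTheory.Limits AlgebraicGeometry Opposite
open scoped TensorProduct

noncomputable section

namespace Groth.Agent.GenPts4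

variable {X S : Scheme.{u}} (f : X ⟶ S) (F : X.Modules) (p : ℕ)

/-- A point where the rank is at most `p` lies in a chart. -/
theorem exists_datum [Smooth f] (hF : Coh.IsQCoh F) (hFT : CohB1.IsFT F) {ξ : X}
    (h : ξ ∉ (Fitt.sheafIdeal F p).support) : ∃ D : Datum f F p, f ξ ∈ D.V.1 := by
  obtain ⟨V₀, hV₀, hξV₀, -⟩ := exists_isAffineOpen_mem_and_subset (x := f ξ) (U := ⊤) trivial
  obtain ⟨U₀, hU₀, hξU₀, hle⟩ := exists_isAffineOpen_mem_and_subset (x := ξ) (U := f ⁻¹ᵁ V₀) hξV₀
  haveI := M1.finite_sections hF hFT hU₀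
  rw [Fitting26.mem_support_iff hF hFT p hU₀ hξU₀] at h
  obtain ⟨w, g, hw, hg⟩ := (FittingLib.not_le_iff_exists_smul_mem_span p _).1 h
  have hξw : ξ ∈ X.basicOpen w := by rw [X.mem_basicOpen w ξ hξU₀, M1.isUnit_germ_iff hU₀ hξU₀]; exact hw
  let O : S.Opens := ⟨f '' (X.basicOpen w : Set X), f.isOpenMap _ (X.basicOpen w).isOpen⟩
  obtain ⟨r, hrO, hξr⟩ := hV₀.exists_basicOpen_le (V := O) ⟨f ξ, ⟨ξ, hξw, rfl⟩⟩ hξV₀
  let r' : Γ(X, U₀) := f.appLE V₀ U₀ hle r
  let a : Γ(X, U₀) := w * r'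
  have ha : ∀ y, y ∈ X.basicOpen a ↔ y ∈ X.basicOpen w ∧ y ∈ U₀ ∧ f y ∈ S.basicOpen r := fun y => by
    rw [X.basicOpen_mul, Scheme.basicOpen_appLE]
    exact Iff.rfl
  refine ⟨{
    V := ⟨S.basicOpen r, hV₀.basicOpen r⟩
    U := ⟨X.basicOpen a, hU₀.basicOpen a⟩
    le := fun y hy => ((ha y).1 hy).2.2
    surj := fun v hv => ?_
    x := fun i => M1.mres F (X.basicOpen_le a) (g i)
    span := ?_ }, hξr⟩
  · obtain ⟨y, hy, rfl⟩ := hrO hv
    exact ⟨y, (ha y).2 ⟨hy, X.basicOpen_le w hy, hv⟩, rfl⟩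
  · have hmap : ∀ m ∈ Submodule.span Γ(X, U₀) (Set.range g), M1.mres F (X.basicOpen_le a) m ∈
        Submodule.span Γ(X, X.basicOpen a) (Set.range fun i => M1.mres F (X.basicOpen_le a) (g i)) := by
      intro m hm
      induction hm using Submodule.span_induction with
      | mem m hm => obtain ⟨i, rfl⟩ := hm; exact Submodule.subset_span ⟨i, rfl⟩
      | zero => rw [map_zero]; exact zero_mem _
      | add x y _ _ hx hy => rw [map_add]; exact add_mem hx hy
      | smul c x _ hx => rw [M1.mres_smul]; exact Submodule.smul_mem _ _ hx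
    refine eq_top_iff.2 fun t _ => ?_
    obtain ⟨k, t₀, ht⟩ := M1.exists_pow_smul_eq_res_affine F hU₀ a t
    have hua : IsUnit (M1.ores (X.basicOpen_le a) a) := RingedSpace.isUnit_res_basicOpen X.toRingedSpace a
    have huw : IsUnit (M1.ores (X.basicOpen_le a) w) := by
      have := hua
      rw [show a = w * r' from rfl, map_mul] at this
      exact isUnit_of_mul_isUnit_left this
    have h1 := hmap _ (hg t₀)
    rw [M1.mres_smul, ht, smul_smul] at h1
    exact (Submodule.smul_mem_iff_of_isUnit _ (huw.mul (hua.pow k))).1 h1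

variable {f F p}

/-- Every point of the base of a chart is the image of a point where the rank is at most `p`. -/
theorem Datum.exists_notMem_support (D : Datum f F p) (hF : Coh.IsQCoh F) (hFT : CohB1.IsFT F) {v : S}
    (hv : v ∈ D.V.1) : ∃ y, f y = v ∧ y ∉ (Fitt.sheafIdeal F p).support := by
  obtain ⟨y, hy, rfl⟩ := D.surj v hv
  refine ⟨y, rfl, fun h => ?_⟩
  haveI := M1.finite_sections hF hFT D.U.2
  rw [Fitting26.mem_support_iff hF hFT p D.U.2 hy, FittingLib.ideal_eq_top_of_span D.x D.span le_rfl] at h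
  exact (D.U.2.primeIdealOf ⟨y, hy⟩).isPrime.ne_top (top_le_iff.1 h)

/-- Freeness near a point after pullback bounds the rank at its image. -/
theorem notMem_support_of_free {X' : Scheme.{u}} (π : X' ⟶ X) (hF : Coh.IsQCoh F) (hFT : CohB1.IsFT F) {z : X'}
    (h : FlatFun.IsFreeOfRankNear ((Scheme.Modules.pullback π).obj F) p z) :
    π z ∉ (Fitt.sheafIdeal F p).support := by
  obtain ⟨U₀, hU₀, hzU₀, -⟩ := exists_isAffineOpen_mem_and_subset (x := π z) (U := ⊤) trivial
  obtain ⟨W, hW, hzW, hle⟩ := exists_isAffineOpen_mem_and_subset (x := z) (U := π ⁻¹ᵁ U₀) hzU₀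
  let φ := π.appLE U₀ W hle
  have hj : hW.fromSpec ≫ π = Spec.map φ ≫ hU₀.fromSpec := (IsAffineOpen.SpecMap_appLE_fromSpec π hU₀ hW hle).symm
  let q := hW.primeIdealOf ⟨z, hzW⟩
  have hq : hW.fromSpec q = z := hW.fromSpec_primeIdealOf _
  rw [← hq] at h
  obtain ⟨b, hb, hβ⟩ := (free_near_iff hF π hU₀ φ hW.fromSpec hj p q).1 h
  letI := ((algebraMap Γ(X', W) (Localization.Away b)).comp φ.hom).toAlgebra
  obtain ⟨β⟩ := hβ
  haveI := M1.finite_sections hF hFT hU₀
  have hI : (Fitt.ideal Γ(X, U₀) Γ(F, U₀) p).map (algebraMap Γ(X, U₀) (Localization.Away b)) = ⊤ := by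
    rw [← FittingLib.ideal_baseChange, FittingLib.ideal_eq_top_of_span β β.span_eq le_rfl]
  obtain ⟨q', hq'⟩ : q ∈ Set.range (PrimeSpectrum.comap (algebraMap Γ(X', W) (Localization.Away b))) := by
    rw [PrimeSpectrum.localization_away_comap_range (S := Localization.Away b) b]; exact hb
  have hp : hU₀.primeIdealOf ⟨π z, hzU₀⟩ = PrimeSpectrum.comap φ.hom q := hU₀.fromSpec.injective (by
    refine (hU₀.fromSpec_primeIdealOf _).trans ?_
    show π z = hU₀.fromSpec (Spec.map φ q)
    rw [← Scheme.Hom.comp_apply, ← hj, Scheme.Hom.comp_apply, hq])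
  rw [Fitting26.mem_support_iff hF hFT p hU₀ hzU₀, hp]
  intro hle'
  refine q'.isPrime.ne_top (top_le_iff.1 (hI ▸ Ideal.map_le_iff_le_comap.2 fun r hr => ?_))
  have := hle' hr
  rw [← hq'] at this
  exact this

end Groth.Agent.GenPts4
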