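import Groth.Agent.Lib.GenPts4.Rep
import Groth.Agent.Lib.FpqcFun14.Sheaf
import Groth.Agent.Lib.LimFun.Basic
import Mathlib.AlgebraicGeometry.AffineTransitionLimit

/-!
# Descent and limit preservation for `H_p`
-/

set_option autoImplicit false
set_option linter.style.haveILetI false
set_option backward.isDefEq.respectTransparency false
set_option backward.isDefEq.respectTransparency.types false

universe u

open CategoryTheory CategoryTheory.Limits AlgebraicGeometry Opposite TopologicalSpace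

noncomputable section

namespace Groth.Agent.GenPts4

variable {X S : Scheme.{u}} (f : X ⟶ S) [GeometricallyIrreducible f] [Smooth f] (F : X.Modules) (p : ℕ)

theorem P_of_flat (hF : Coh.IsQCoh F) (hFT : CohB1.IsFT F) (T : Over S)
    (h : ∀ t : T.left, ∃ (T' : Over S) (k : T' ⟶ T), Flat k.left ∧ t ∈ Set.range k.left ∧ P f F p T') :
    P f F p T := by
  refine P_of_openImm f F p T fun t => ?_
  obtain ⟨T', k, -, ⟨t', ht⟩, hT'⟩ := h t
  obtain ⟨y, hy, hyt⟩ := mem_W_of_P f F p hF hFT hT' t'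
  obtain ⟨D, hD⟩ := exists_datum f F p hF hFT hy
  have htV : T.hom t ∈ D.V.1 := by
    rw [← ht, ← Scheme.Hom.comp_apply, Over.w k, ← hyt]; exact hD
  obtain ⟨U, hU, htU, hUV⟩ := exists_isAffineOpen_mem_and_subset (x := t) (U := T.hom ⁻¹ᵁ D.V.1) htV
  let ψ := T.hom.appLE D.V.1 U hUV
  letI := ψ.hom.toAlgebra
  obtain ⟨c, -, hc⟩ := D.exists_content hF
  have hw : hU.fromSpec ≫ T.hom = Spec.map ψ ≫ D.V.2.fromSpec :=
    (IsAffineOpen.SpecMap_appLE_fromSpec T.hom D.V.2 hU hUV).symm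
  refine ⟨D.base Γ(T.left, U), Over.homMk hU.fromSpec hw, inferInstanceAs (IsOpenImmersion hU.fromSpec),
    ⟨hU.primeIdealOf ⟨t, htU⟩, hU.fromSpec_primeIdealOf _⟩, (hc _).2 fun r hr => ?_⟩
  refine TopCat.Presheaf.section_ext T.left.sheaf U _ _ fun x hx => ?_
  obtain ⟨T₁, g, hg, ⟨x', hx'⟩, hT₁⟩ := h x
  obtain ⟨W', hW', hxW', hle⟩ := exists_isAffineOpen_mem_and_subset (x := x') (U := g.left ⁻¹ᵁ U)
    (show g.left x' ∈ U from hx'.symm ▸ hx)
  let χ := g.left.appLE U W' hle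
  subst hx'
  haveI := FpqcFun14.faithfullyFlat_stalk g.left x'
  have hinj : Function.Injective (g.left.stalkMap x').hom :=
    FaithfulSMul.algebraMap_injective (T.left.presheaf.stalk (g.left x')) (T₁.left.presheaf.stalk x')
  have h0 : χ.hom (ψ.hom r) = 0 := by
    letI := (χ.hom.comp ψ.hom).toAlgebra
    refine (hc Γ(T₁.left, W')).1 (P_of_hom f F p (Over.homMk hW'.fromSpec ?_ : D.base Γ(T₁.left, W') ⟶ T₁) hT₁) r hr
    show hW'.fromSpec ≫ T₁.hom = Spec.map (ψ ≫ χ) ≫ D.V.2.fromSpec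
    rw [← Over.w g, ← Category.assoc, ← IsAffineOpen.SpecMap_appLE_fromSpec g.left hU hW' hle, Category.assoc, hw,
      Spec.map_comp, Category.assoc]
  apply hinj
  rw [map_zero, map_zero]
  show (T.left.presheaf.germ U (g.left x') hx ≫ g.left.stalkMap x').hom (ψ.hom r) = 0
  rw [Scheme.Hom.germ_stalkMap]
  have : g.left.app U ≫ T₁.left.presheaf.germ (g.left ⁻¹ᵁ U) x' hx =
      χ ≫ T₁.left.presheaf.germ W' x' hxW' := by
    simp only [χ, Scheme.Hom.appLE, Category.assoc, TopCat.Presheaf.germ_res]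
  rw [this]
  show T₁.left.presheaf.germ W' x' hxW' (χ.hom (ψ.hom r)) = 0
  rw [h0, map_zero]

theorem isSheaf_H (hF : Coh.IsQCoh F) (hFT : CohB1.IsFT F) :
    Presheaf.IsSheaf (QuotSh.J Scheme.fpqcPrecoverage S) (FlatFun.genPSp S (P f F p)) :=
  FpqcFun14.isSheaf_genPSp _ (P_of_hom f F p) (P_of_flat f F p hF hFT)

theorem isLimitPreserving_H (hFP : CohB1.IsFP F) : AlgSp.IsLimitPreserving (FlatFun.genPSp S (P f F p)) := by
  obtain ⟨Z, -, hZ, hkey, hfin⟩ := exists_rep f F p (M1.isFP_isQCoh hFP) (M1.isFP_isFT hFP)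
  haveI := (hfin hFP).1
  refine LimFun.isLimitPreserving_genPSp _ (P_of_hom f F p) fun I _ _ D c hc hD _ hP => ?_
  obtain ⟨a⟩ := hkey _ hP
  let D' := D ⋙ Over.forget S
  let t : D' ⟶ (Functor.const I).obj S :=
    { app := fun i => (D.obj i).hom
      naturality := fun i j u => (Over.w (D.map u)).trans (Category.comp_id _).symm }
  haveI : ∀ i, IsAffine (D'.obj i) := hD
  haveI : ∀ {i j} (u : i ⟶ j), IsAffineHom (D'.map u) := fun {i j} u =>
    haveI := hD i
    haveI := hD j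
    isAffineHom_of_isAffine _
  haveI : ∀ i, CompactSpace (D'.obj i) := fun i => inferInstance
  haveI : ∀ i, QuasiSeparatedSpace (D'.obj i) := fun i => inferInstance
  obtain ⟨i, g, -, hg⟩ := Scheme.exists_π_app_comp_eq_of_locallyOfFinitePresentation D' t Z.hom
    ((Over.forget S).mapCone c) hc a.left (by
      ext i
      show (c.π.app i).left ≫ (D.obj i).hom = a.left ≫ Z.hom
      rw [Over.w a]
      exact Over.w (c.π.app i))
  exact ⟨i, P_of_hom f F p (Over.homMk g hg : D.obj i ⟶ Z) hZ⟩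

theorem exists_representable (hF : Coh.IsQCoh F) (hFT : CohB1.IsFT F) :
    ∃ Z : Over S, IsImmersion Z.hom ∧ Nonempty ((FlatFun.genPSp S (P f F p)).RepresentableBy Z) ∧
      (CohB1.IsFP F → LocallyOfFinitePresentation Z.hom ∧ QuasiCompact Z.hom ∧ QuasiSeparated Z.hom) := by
  obtain ⟨Z, hi, hZ, hkey, hfin⟩ := exists_rep f F p hF hFT
  haveI : IsImmersion Z.hom := hi
  haveI : Mono Z.hom := inferInstance
  let E : ∀ T : Over S, (T ⟶ Z) ≃ (FlatFun.genPSp S (P f F p)).obj (op T) := fun T =>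
    { toFun := fun k => ⟨⟨⟨Z, k, hZ⟩⟩⟩
      invFun := fun x => (hkey T ((FlatFun.genPSp_nonempty_iff_of_stable _ (P_of_hom f F p) T).1 ⟨x⟩)).some
      left_inv := fun k => Over.OverMorphism.ext ((cancel_mono Z.hom).1 ((Over.w _).trans (Over.w k).symm))
      right_inv := fun x => Subsingleton.elim _ _ }
  exact ⟨Z, hi, ⟨{ homEquiv := fun {T} => E T, homEquiv_comp := fun _ _ => Subsingleton.elim _ _ }⟩, hfin⟩

end Groth.Agent.GenPts4
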