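import Groth.Agent.Lib.GenPts4.Exists
import Groth.Agent.Lib.OverRep16.Glue
import Mathlib

/-!
# Representability of `H_p` by an immersion
-/

set_option autoImplicit false
set_option linter.style.haveILetI false
set_option backward.isDefEq.respectTransparency false
set_option backward.isDefEq.respectTransparency.types false

universe u

open CategoryTheory CategoryTheory.Limits AlgebraicGeometry Opposite TopologicalSpace

noncomputable section

namespace Groth.Agent.GenPts4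

variable {X S : Scheme.{u}} (f : X ⟶ S) [GeometricallyIrreducible f] (F : X.Modules) (p : ℕ)

/-- The functor of the condition, in the universe of the base. -/
def G : (Over S)ᵒᵖ ⥤ Type u where
  obj T := ULift.{u} (PLift (P f F p T.unop))
  map g := ↾fun x => ⟨⟨P_of_hom f F p g.unop x.down.down⟩⟩
  map_id T := by ext x; exact Subsingleton.elim (α := PLift (P f F p T.unop)) _ _
  map_comp {T T' T''} g g' := by ext x; exact Subsingleton.elim (α := PLift (P f F p T''.unop)) _ _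

instance subsingleton_G (T : (Over S)ᵒᵖ) : Subsingleton ((G f F p).obj T) :=
  inferInstanceAs (Subsingleton (ULift.{u} (PLift (P f F p T.unop))))

theorem isZarSheaf_G : OverRep16.IsZarSheaf (G f F p) := by
  intro T 𝒰 x _
  have hT : P f F p T := P_of_openImm f F p T fun t => by
    obtain ⟨y, hy⟩ := 𝒰.covers t
    exact ⟨_, OverRep16.piece 𝒰 (𝒰.idx t), inferInstanceAs (IsOpenImmersion (𝒰.f (𝒰.idx t))), ⟨y, hy⟩,
      (x (𝒰.idx t)).down.down⟩
  exact ⟨⟨⟨hT⟩⟩, fun k => Subsingleton.elim _ _, fun _ _ => Subsingleton.elim _ _⟩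

variable {f F p}

/-- A scheme over a chart with the condition factors through a closed subscheme of the chart. -/
theorem Datum.exists_hom (D : Datum f F p) (c : Ideal Γ(S, D.V.1))
    (hc : ∀ (C : Type u) [CommRing C] [Algebra Γ(S, D.V.1) C],
      P f F p (D.base C) ↔ ∀ r ∈ c, algebraMap Γ(S, D.V.1) C r = 0)
    (T : Over S) (hT : ∀ y, T.hom y ∈ D.V.1) (hP : P f F p T) : Nonempty (T ⟶ D.base (Γ(S, D.V.1) ⧸ c)) := by
  have hr : Set.range T.hom ⊆ Set.range D.V.2.fromSpec := by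
    rw [D.V.2.range_fromSpec]
    rintro _ ⟨y, rfl⟩
    exact hT y
  let w : T.left ⟶ Spec Γ(S, D.V.1) := IsOpenImmersion.lift D.V.2.fromSpec T.hom hr
  let Z := D.base (Γ(S, D.V.1) ⧸ c)
  haveI hci : IsClosedImmersion (Spec.map (CommRingCat.ofHom (algebraMap Γ(S, D.V.1) (Γ(S, D.V.1) ⧸ c)))) :=
    IsClosedImmersion.spec_of_surjective _ Ideal.Quotient.mk_surjective
  haveI : Mono Z.hom := mono_comp _ _
  let 𝒰 := T.left.affineCover
  have hk : ∀ j, ∃ l : 𝒰.X j ⟶ Z.left, l ≫ Z.hom = 𝒰.f j ≫ T.hom := fun j => by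
    obtain ⟨ψ, hψ⟩ := Spec.map_surjective (𝒰.f j ≫ w)
    letI := ψ.hom.toAlgebra
    have hw : Spec.map ψ ≫ D.V.2.fromSpec = 𝒰.f j ≫ T.hom := by
      rw [hψ, Category.assoc, IsOpenImmersion.lift_fac]
    have h1 := P_of_hom f F p (Over.homMk (𝒰.f j) hw.symm :
      Over.mk (Spec.map ψ ≫ D.V.2.fromSpec) ⟶ T) hP
    obtain ⟨l, hl⟩ := (WeilClosed4.le_ker_iff_factor c ψ.hom).1 ((hc _).1 h1)
    exact ⟨l, by rw [← hw]; exact (Category.assoc _ _ _).symm.trans (congrArg (· ≫ D.V.2.fromSpec) hl)⟩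
  choose l hl using hk
  refine ⟨Over.homMk (𝒰.glueMorphisms l fun a b => ?_) (𝒰.hom_ext _ _ fun j => ?_)⟩
  · rw [← cancel_mono Z.hom, Category.assoc, Category.assoc, hl, hl, pullback.condition_assoc]
  · rw [Scheme.Cover.ι_glueMorphisms_assoc, hl]

theorem Datum.mem_base (D : Datum f F p) (C : Type u) [CommRing C] [Algebra Γ(S, D.V.1) C] {T : Over S}
    (h : T ⟶ D.base C) (y : T.left) : T.hom y ∈ D.V.1 := by
  rw [← Over.w h]
  show D.V.2.fromSpec _ ∈ _
  rw [← SetLike.mem_coe, ← D.V.2.range_fromSpec]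
  exact ⟨_, rfl⟩

variable (f F p) [Smooth f]

/-- The open of the points where the generic fibre rank is at most `p`. -/
def W : S.Opens := ⟨f '' (((Fitt.sheafIdeal F p).support : Set X)ᶜ),
  f.isOpenMap _ (Fitt.sheafIdeal F p).support.isClosed.isOpen_compl⟩

theorem mem_W_of_P (hF : Coh.IsQCoh F) (hFT : CohB1.IsFT F) {T : Over S} (hP : P f F p T) (t : T.left) :
    T.hom t ∈ W f F p := by
  obtain ⟨z, hz, -, hfree⟩ := hP t
  refine ⟨pullback.fst f T.hom z, notMem_support_of_free _ hF hFT hfree, ?_⟩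
  rw [← Scheme.Hom.comp_apply, pullback.condition, Scheme.Hom.comp_apply]
  exact congrArg T.hom hz

theorem exists_rep (hF : Coh.IsQCoh F) (hFT : CohB1.IsFT F) :
    ∃ Z : Over S, IsImmersion Z.hom ∧ P f F p Z ∧ (∀ T, P f F p T → Nonempty (T ⟶ Z)) ∧
      (CohB1.IsFP F → LocallyOfFinitePresentation Z.hom ∧ QuasiCompact Z.hom ∧ QuasiSeparated Z.hom) := by
  choose c hcfg hc using fun D : Datum f F p => D.exists_content hF
  let Z₀ : Datum f F p → Over S := fun D => D.base (Γ(S, D.V.1) ⧸ c D)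
  have hPZ₀ : ∀ D, P f F p (Z₀ D) := fun D => (hc D _).2 fun r hr => Ideal.Quotient.eq_zero_iff_mem.2 hr
  have hmono : ∀ D, Mono (Z₀ D).hom := fun D => by
    haveI hci : IsClosedImmersion (Spec.map (CommRingCat.ofHom (algebraMap Γ(S, D.V.1) (Γ(S, D.V.1) ⧸ c D)))) :=
      IsClosedImmersion.spec_of_surjective _ Ideal.Quotient.mk_surjective
    exact mono_comp _ _
  let C : Datum f F p → OverRep16.Chart (G f F p) := fun D =>
    { U := Z₀ D
      Z := ⟨⟨hPZ₀ D⟩⟩
      eq_of_map_eq := fun h h' _ => by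
        haveI := hmono D
        exact Over.OverMorphism.ext ((cancel_mono (Z₀ D).hom).1 ((Over.w h).trans (Over.w h').symm))
      exists_locus := fun T Z' => ⟨T.hom ⁻¹ᵁ D.V.1, fun {T'} g => ⟨fun hg => by
          obtain ⟨k⟩ := D.exists_hom (c D) (hc D) T'
            (fun y => by rw [← Over.w g, Scheme.Hom.comp_apply]; exact hg y) (P_of_hom f F p g Z'.down.down)
          exact ⟨k, Subsingleton.elim _ _⟩, fun ⟨k, _⟩ y => by
          show T.hom (g.left y) ∈ D.V.1
          rw [← Scheme.Hom.comp_apply, Over.w g]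
          exact D.mem_base _ k y⟩⟩ }
  obtain ⟨Z, ⟨r⟩⟩ := OverRep16.representable_of_charts (isZarSheaf_G f F p) C fun T Z' t => by
    obtain ⟨y, hy, hyt⟩ := mem_W_of_P f F p hF hFT Z'.down.down t
    obtain ⟨D, hD⟩ := exists_datum f F p hF hFT hy
    obtain ⟨k⟩ := D.exists_hom (c D) (hc D) (Over.mk ((T.hom ⁻¹ᵁ D.V.1).ι ≫ T.hom))
      (fun z => z.2) (P_of_hom f F p (Over.homMk (T.hom ⁻¹ᵁ D.V.1).ι rfl) Z'.down.down)
    exact ⟨D, T.hom ⁻¹ᵁ D.V.1, show T.hom t ∈ D.V.1 by
      rw [show T.hom t = f y from hyt.symm]; exact hD, k, Subsingleton.elim _ _⟩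
  have hZ : P f F p Z := (r.homEquiv (𝟙 Z)).down.down
  have hkey : ∀ T, P f F p T → Nonempty (T ⟶ Z) := fun T hT => ⟨r.homEquiv.symm ⟨⟨hT⟩⟩⟩
  have huniq : ∀ {T : Scheme.{u}} (a b : T ⟶ Z.left), a ≫ Z.hom = b ≫ Z.hom → a = b := fun {T} a b h =>
    congrArg Over.Hom.left (r.homEquiv.injective (a₁ := (Over.homMk a rfl : Over.mk (a ≫ Z.hom) ⟶ Z))
      (a₂ := Over.homMk b h.symm) (Subsingleton.elim _ _))
  -- the pullback square of a chart
  have hsq : ∀ D, ∃ a, IsPullback a (Spec.map (CommRingCat.ofHom (algebraMap Γ(S, D.V.1) (Γ(S, D.V.1) ⧸ c D))))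
      Z.hom D.V.2.fromSpec := by
    intro D
    obtain ⟨a⟩ := hkey _ (hPZ₀ D)
    haveI := hmono D
    have hl : ∀ s : PullbackCone Z.hom D.V.2.fromSpec, ∃ l : s.pt ⟶ (Z₀ D).left,
        l ≫ (Z₀ D).hom = s.fst ≫ Z.hom := fun s => by
      obtain ⟨k⟩ := D.exists_hom (c D) (hc D) (Over.mk (s.fst ≫ Z.hom))
        (fun y => by
          show (s.fst ≫ Z.hom) y ∈ D.V.1
          rw [s.condition, ← SetLike.mem_coe, ← D.V.2.range_fromSpec]
          exact ⟨s.snd y, rfl⟩)
        (P_of_hom f F p (Over.homMk s.fst rfl : Over.mk (s.fst ≫ Z.hom) ⟶ Z) hZ)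
      exact ⟨k.left, Over.w k⟩
    choose l hl using hl
    refine ⟨a.left, ⟨Over.w a⟩, ⟨PullbackCone.IsLimit.mk _ l (fun s => ?_) (fun s => ?_) (fun s m h₁ h₂ => ?_)⟩⟩
    · refine huniq _ _ ?_
      rw [Category.assoc, Over.w a]
      exact hl s
    · refine (cancel_mono D.V.2.fromSpec).1 ((Category.assoc _ _ _).trans ?_)
      exact (hl s).trans s.condition
    · rw [← cancel_mono (Z₀ D).hom, hl, ← h₁, Category.assoc, Over.w a]
  let W' := W f F p
  have hrange : ∀ z, Z.hom z ∈ W' := mem_W_of_P f F p hF hFT hZ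
  -- a property local at the target, checked on the charts
  have hloc : ∀ (Q : MorphismProperty Scheme.{u}) [IsZariskiLocalAtTarget Q] [Q.IsStableUnderBaseChange],
      (∀ D : Datum f F p, Q (Spec.map (CommRingCat.ofHom (algebraMap Γ(S, D.V.1) (Γ(S, D.V.1) ⧸ c D))))) →
      Q (Z.hom ∣_ W') := by
    intro Q _ _ hQ
    refine IsZariskiLocalAtTarget.of_iSup_eq_top (fun D : Datum f F p => W'.ι ⁻¹ᵁ D.V.1) ?_ fun D => ?_
    · refine top_le_iff.1 fun w _ => ?_
      obtain ⟨y, hy, hyw⟩ := w.2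
      obtain ⟨D, hD⟩ := exists_datum f F p hF hFT hy
      exact Opens.mem_iSup.2 ⟨D, show W'.ι w ∈ D.V.1 by
        rw [show W'.ι w = f y from hyw.symm]; exact hD⟩
    · have hVW : D.V.1 ≤ W' := fun v hv => by
        obtain ⟨y, hyv, hy⟩ := D.exists_notMem_support hF hFT hv
        exact ⟨y, hy, hyv⟩
      refine (Q.arrow_mk_iso_iff (morphismRestrictRestrict Z.hom W' (W'.ι ⁻¹ᵁ D.V.1))).2 ?_
      rw [Scheme.Hom.image_preimage_eq_opensRange_inf, Scheme.Opens.opensRange_ι, inf_eq_right.2 hVW]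
      obtain ⟨a, ha⟩ := hsq D
      have h₁ : (Z.hom ⁻¹ᵁ D.V.1).ι ≫ Z.hom = ((Z.hom ∣_ D.V.1) ≫ D.V.2.isoSpec.hom) ≫ D.V.2.fromSpec := by
        rw [← morphismRestrict_ι, Category.assoc, IsAffineOpen.isoSpec_hom_fromSpec]
      refine Q.of_isPullback (f' := ha.lift _ _ h₁) (f := D.V.2.isoSpec.hom) ?_ (hQ D)
      refine IsPullback.of_right ?_ (ha.lift_snd _ _ h₁) ha
      rw [ha.lift_fst, IsAffineOpen.isoSpec_hom_fromSpec]
      exact (isPullback_morphismRestrict Z.hom D.V.1).flip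
  haveI : IsClosedImmersion (Z.hom ∣_ W') := hloc @IsClosedImmersion fun D =>
    IsClosedImmersion.spec_of_surjective _ Ideal.Quotient.mk_surjective
  have htop : Z.hom ⁻¹ᵁ W' = ⊤ := top_le_iff.1 fun z _ => hrange z
  haveI : IsIso (Z.hom ⁻¹ᵁ W').ι := by rw [htop]; exact inferInstanceAs (IsIso Z.left.topIso.hom)
  have hfac : Z.hom = inv (Z.hom ⁻¹ᵁ W').ι ≫ (Z.hom ∣_ W') ≫ W'.ι := by
    rw [morphismRestrict_ι, IsIso.inv_hom_id_assoc]
  refine ⟨Z, by rw [hfac]; infer_instance, hZ, hkey, fun hfp => ⟨?_, ?_, ?_⟩⟩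
  · haveI : LocallyOfFinitePresentation (Z.hom ∣_ W') := hloc @LocallyOfFinitePresentation fun D =>
      (HasRingHomProperty.Spec_iff (P := @LocallyOfFinitePresentation)).2
        (RingHom.FinitePresentation.of_surjective _ Ideal.Quotient.mk_surjective
          (by simpa [Ideal.mk_ker] using hcfg D hfp))
    rw [hfac]; infer_instance
  · haveI : QuasiCompact W'.ι := by
      refine quasiCompact_iff_forall_isAffineOpen.2 fun {V₀} hV₀ => ?_
      rw [W'.ι.isEmbedding.isCompact_iff]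
      show IsCompact (W'.ι '' (W'.ι ⁻¹' (V₀ : Set S)))
      rw [Set.image_preimage_eq_inter_range, Scheme.Opens.range_ι]
      have hU : ∀ v : V₀, ∃ U : X.affineOpens, U.1 ≤ f ⁻¹ᵁ V₀ ∧ (v : S) ∈ f '' (U.1 : Set X) := fun v => by
        obtain ⟨y, hy, -⟩ := exists_generic f v.1
        obtain ⟨U, hU, hyU, hle⟩ := exists_isAffineOpen_mem_and_subset (x := y) (U := f ⁻¹ᵁ V₀)
          (show f y ∈ V₀ from hy ▸ v.2)
        exact ⟨⟨U, hU⟩, hle, y, hyU, hy⟩
      choose U hUle hUv using hU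
      obtain ⟨t, ht⟩ := hV₀.isCompact.elim_finite_subcover (fun v : V₀ => f '' ((U v).1 : Set X))
        (fun v => f.isOpenMap _ (U v).1.isOpen) fun v hv => Set.mem_iUnion.2 ⟨⟨v, hv⟩, hUv ⟨v, hv⟩⟩
      have heq : (V₀ : Set S) ∩ (W' : Set S) =
          ⋃ v ∈ t, f '' (((U v).1 : Set X) ∩ ((Fitt.sheafIdeal F p).support : Set X)ᶜ) := by
        ext s
        simp only [Set.mem_iUnion, Set.mem_inter_iff, Set.mem_image]
        constructor
        · rintro ⟨hs, y, hy, rfl⟩
          have := ht hs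
          simp only [Set.mem_iUnion, exists_prop] at this
          obtain ⟨v, hv, y', hy', hyy'⟩ := this
          obtain ⟨η, hη, hηg⟩ := exists_generic f (f y)
          exact ⟨v, hv, η, ⟨mem_of_generic hηg (hyy'.trans hη.symm) _ hy',
            mem_of_generic hηg hη.symm ⟨_, (Fitt.sheafIdeal F p).support.isClosed.isOpen_compl⟩ hy⟩, hη⟩
        · rintro ⟨v, -, y, ⟨hyU, hyO⟩, rfl⟩
          exact ⟨hUle v hyU, y, hyO, rfl⟩
      rw [heq]
      refine t.isCompact_biUnion fun v _ => ?_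
      refine IsCompact.image ?_ f.continuous
      obtain ⟨s, hs⟩ := Fitting26.isFiniteType hfp p (U v)
      have hcpl : ((U v).1 : Set X) ∩ ((Fitt.sheafIdeal F p).support : Set X)ᶜ =
          ⋃ a ∈ s, (X.basicOpen a : Set X) := by
        ext y
        simp only [Set.mem_iUnion, Set.mem_inter_iff, Set.mem_compl_iff, SetLike.mem_coe, exists_prop]
        constructor
        · rintro ⟨hy, h⟩
          rw [Scheme.IdealSheafData.mem_support_iff_of_mem hy, ← hs] at h
          by_contra hc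
          push Not at hc
          refine h ((Set.ext_iff.1 (Scheme.zeroLocus_span X _) y).2 ?_)
          rw [Scheme.mem_zeroLocus_iff]
          exact hc
        · rintro ⟨a, ha, hy⟩
          refine ⟨X.basicOpen_le a hy, fun h => ?_⟩
          rw [Scheme.IdealSheafData.mem_support_iff_of_mem (X.basicOpen_le a hy), Scheme.mem_zeroLocus_iff] at h
          exact h a (hs ▸ Ideal.subset_span ha) hy
      rw [hcpl]
      exact s.isCompact_biUnion fun a _ => ((U v).2.basicOpen a).isCompact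
    rw [hfac]; infer_instance
  · rw [hfac]; infer_instance

end Groth.Agent.GenPts4
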